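import Mathlib.AlgebraicGeometry.Morphisms.FlatDescent
import Mathlib.AlgebraicGeometry.Morphisms.ClosedImmersion

/-!
Being a closed immersion satisfies fpqc descent.
-/

universe u

open CategoryTheory CategoryTheory.Limits MorphismProperty

namespace AlgebraicGeometry

set_option backward.isDefEq.respectTransparency.types false in
instance descendsAlong_isClosedImmersion_surjective_inf_flat_inf_quasicompact :
    MorphismProperty.DescendsAlong (@IsClosedImmersion : MorphismProperty Scheme.{u}) (@Surjective ⊓ @Flat ⊓ @QuasiCompact) := by
  apply IsZariskiLocalAtTarget.descendsAlong_inf_quasiCompact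
  · rw [inf_comm]
    exact inf_le_inf le_rfl (IsLocalIso.le_of_isZariskiLocalAtSource _)
  intro R S Y φ g h hfst
  haveI := hfst
  have : IsAffine Y :=
    have : UniversallyInjective g :=
      of_pullback_fst_of_descendsAlong (P := @UniversallyInjective) (f := Spec.map φ)
        (Q := @Surjective ⊓ @Flat ⊓ @QuasiCompact) ⟨h, inferInstance⟩ inferInstance
    have : UniversallyClosed g :=
      of_pullback_fst_of_descendsAlong (P := @UniversallyClosed) (f := Spec.map φ)
        (Q := @Surjective ⊓ @Flat ⊓ @QuasiCompact) ⟨h, inferInstance⟩ inferInstance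
    have : Topology.IsClosedEmbedding g.base :=
      .of_continuous_injective_isClosedMap g.continuous g.injective g.isClosedMap
    have : IsAffineHom g := isAffineHom_of_isInducing g this.isInducing this.isClosed_range
    isAffine_of_isAffineHom g
  wlog hY : ∃ T, Y = Spec T generalizing Y
  · rw [← MorphismProperty.cancel_left_of_respectsIso (@IsClosedImmersion : MorphismProperty Scheme.{u}) Y.isoSpec.inv]
    have heq : pullback.fst (Spec.map φ) (Y.isoSpec.inv ≫ g) =
      pullback.map _ _ _ _ (𝟙 _) (Y.isoSpec.inv) (𝟙 _) (by simp) (by simp) ≫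
        pullback.fst (Spec.map φ) g := (pullback.lift_fst _ _ _).symm
    have h3 : IsClosedImmersion (pullback.fst (Spec.map φ) (Y.isoSpec.inv ≫ g)) := by
      rw [heq, MorphismProperty.cancel_left_of_respectsIso (@IsClosedImmersion : MorphismProperty Scheme.{u})]
      exact hfst
    exact this _ h3 h3 inferInstance ⟨_, rfl⟩
  obtain ⟨T, rfl⟩ := hY
  obtain ⟨ψ, rfl⟩ := Spec.map_surjective g
  refine of_pullback_fst_Spec_of_codescendsAlong (P := @IsClosedImmersion)
      (Q' := RingHom.FaithfullyFlat) (Q := fun f ↦ Function.Surjective f) (P' := @Surjective ⊓ @Flat)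
      RingHom.FaithfullyFlat.codescendsAlong_surjective ?_ ?_ h hfst
  · intro _ _ f hf
    rwa [← flat_and_surjective_SpecMap_iff, and_comm]
  · intro R S f
    exact HasAffineProperty.SpecMap_iff_of_affineAnd
      (IsClosedImmersion.hasAffineProperty) RingHom.surjective_respectsIso f

end AlgebraicGeometry
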